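/-
Simple groups of even order with abelian centralisers are `PSL₂(2^f)`; conversely these groups
have abelian centralisers.

* `classify`  : from a `CAEven.Setup` to `PSL₂(2^f)`
* `psl_commute` : commuting is transitive on the non-identity elements of `PSL₂` in characteristic two
* `exists_setup` : a nonabelian simple group of even order in which commuting is transitive has a `Setup`
-/
import Cfsg.Agent.Lib.CAEven.Setup
import Cfsg.Agent.Lib.Zassenhaus.AbelianKernel
import Cfsg.Agent.Lib.PSL2.PGL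
import Cfsg.Agent.S0727
import Cfsg.Agent.EqLemmas

set_option autoImplicit false

open MulAction Matrix

namespace Cfsg.Agent.CAEven

variable {G : Type*} [Group G] [Finite G]

namespace Setup

variable (E : Setup G)

theorem pretransitive2 : IsMultiplyPretransitive G (G ⧸ E.N) 2 := by
  refine MulAction.is_two_pretransitive_iff.2 ?_
  intro a b c d hab hcd
  have key : ∀ x y : G ⧸ E.N, x ≠ y → ∀ b₀ : G ⧸ E.N, b₀ ≠ E.pt →
      ∃ g : G, g • E.pt = x ∧ g • b₀ = y := by
    intro x y hxy b₀ hb₀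
    obtain ⟨g, rfl⟩ := E.exists_smul_pt x
    have hy : g⁻¹ • y ≠ E.pt := fun h => hxy (inv_smul_eq_iff.1 h).symm
    obtain ⟨u, hu, huy⟩ := E.card_Ω.2 b₀ (g⁻¹ • y) hb₀ hy
    exact ⟨g * u, by rw [mul_smul, E.stab_pt.2 (E.A_le_N hu)],
      by rw [mul_smul, huy, smul_inv_smul]⟩
  obtain ⟨b₀, hb₀⟩ := E.exists_ne_pt
  obtain ⟨g, rfl, rfl⟩ := key a b hab b₀ hb₀
  obtain ⟨h, rfl, rfl⟩ := key c d hcd b₀ hb₀
  exact ⟨h * g⁻¹, by rw [mul_smul, inv_smul_smul], by rw [mul_smul, inv_smul_smul]⟩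

theorem toPerm_injective : Function.Injective (MulAction.toPermHom G (G ⧸ E.N)) := by
  rcases E.eq_bot_or_top (H := (MulAction.toPermHom G (G ⧸ E.N)).ker) inferInstance with h | h
  · exact (MonoidHom.ker_eq_bot_iff _).1 h
  · refine absurd (eq_top_iff.2 fun g _ => E.stab_pt.1 ?_) E.N_ne_top
    have hg : MulAction.toPermHom G (G ⧸ E.N) g = 1 :=
      MonoidHom.mem_ker.1 (h ▸ Subgroup.mem_top g)
    exact Equiv.congr_fun hg E.pt

theorem faithful : FaithfulSMul G (G ⧸ E.N) :=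
  ⟨fun {_ _} h => E.toPerm_injective (Equiv.ext h)⟩

theorem zassenhaus : Cfsg.IsZassenhausGroup G (G ⧸ E.N) := by
  refine ⟨E.faithful, E.pretransitive2, ?_, ?_, ?_⟩
  · intro g a b c hab hbc hac ha hb hc
    obtain ⟨h, rfl⟩ := E.exists_smul_pt a
    by_contra hg
    have hfix : ∀ w : G ⧸ E.N, g • w = w → (h⁻¹ * g * h) • (h⁻¹ • w) = h⁻¹ • w := fun w hw => by
      rw [mul_smul, mul_smul, smul_inv_smul, hw]
    have h1 : (h⁻¹ * g * h) • E.pt = E.pt := by rw [mul_smul, mul_smul, ha, inv_smul_smul]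
    have hb' : h⁻¹ • b ≠ E.pt := fun e => hab (inv_smul_eq_iff.1 e).symm
    have hc' : h⁻¹ • c ≠ E.pt := fun e => hac (inv_smul_eq_iff.1 e).symm
    exact hbc (smul_left_cancel h⁻¹ (E.two_fix hb' hc' (E.mem_D.2 ⟨h1, hfix b hb⟩)
      (fun e => hg (by
        have : g = h * (h⁻¹ * g * h) * h⁻¹ := by group
        rw [this, e, mul_one, mul_inv_cancel]))
      (hfix c hc)))
  · obtain ⟨b, hb⟩ := E.exists_ne_pt
    haveI : Nontrivial (E.D b) := Finite.one_lt_card_iff_nontrivial.1 (by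
      rw [E.card_D hb]; exact E.two_le_k)
    obtain ⟨x, hx⟩ := exists_ne (1 : E.D b)
    exact ⟨x, fun e => hx (Subtype.ext e), E.pt, b, hb.symm, x.2.1, x.2.2⟩
  · intro M hM hpre
    rcases E.eq_bot_or_top hM with rfl | rfl
    · exfalso
      obtain ⟨b, hb⟩ := E.exists_ne_pt
      obtain ⟨g, hg⟩ := hpre.exists_smul_eq E.pt b
      rw [Subgroup.smul_def, Subgroup.mem_bot.1 g.2, one_smul] at hg
      exact hb hg.symm
    · refine ⟨E.pt, fun h => E.z_inv.1 ?_⟩
      let z' : (⊤ : Subgroup G) := ⟨E.z, Subgroup.mem_top _⟩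
      have h1 : z' ∈ MulAction.stabilizer (⊤ : Subgroup G) E.pt := E.stab_pt.2 (E.A_le_N E.z_mem)
      exact congrArg Subtype.val (Subgroup.mem_bot.1 (SetLike.le_def.1 h.le h1))

/-- The elements of `A` squaring to one. -/
def W : Subgroup G where
  carrier := {t | t ∈ E.A ∧ t * t = 1}
  one_mem' := ⟨E.A.one_mem, mul_one 1⟩
  mul_mem' := fun {s t} hs ht => ⟨E.A.mul_mem hs.1 ht.1, by
    rw [(E.A_comm ht.1 hs.1).mul_mul_mul_comm, hs.2, ht.2, mul_one]⟩
  inv_mem' := fun {t} ht => ⟨E.A.inv_mem ht.1, by rw [← _root_.mul_inv_rev, ht.2, inv_one]⟩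

theorem card_W : Nat.card E.W = E.k + 1 := by
  have e : E.invs = (E.W : Set G) \ {1} := by
    ext t
    exact ⟨fun h => ⟨⟨h.1, h.2.2⟩, h.2.1⟩, fun h => ⟨h.1.1, h.2, h.1.2⟩⟩
  unfold k
  rw [Nat.card_coe_set_eq, e, Set.ncard_sdiff_singleton_add_one E.W.one_mem (Set.toFinite _),
    ← Nat.card_coe_set_eq]
  rfl

theorem classify (E : Setup G) : ∃ (F : Type) (_ : Field F) (_ : Fintype F) (f : ℕ), 2 ≤ f ∧
    Fintype.card F = 2 ^ f ∧ Nonempty (G ≃* Matrix.ProjectiveSpecialLinearGroup (Fin 2) F) := by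
  classical
  have := Fintype.ofFinite (G ⧸ E.N)
  have hZ := E.zassenhaus
  obtain ⟨b, hb⟩ := E.exists_ne_pt
  have hd : Nat.card ↥(stabilizer G E.pt ⊓ stabilizer G b) = E.k := E.card_D hb
  have hn := E.card_Ω.1
  have hbound := Zassenhaus.abelian_bound hZ hb.symm E.A
    (fun x hx => E.stab_pt.2 (E.A_le_N hx)) (by rw [← Nat.card_eq_fintype_card]; exact hn.symm)
    (fun u hu hu1 c hc => E.A_semiregular hu hu1 hc) (fun u hu w hw => (E.A_comm hu hw).eq)
  rw [hd, ← Nat.card_eq_fintype_card, hn] at hbound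
  have hWA : E.W ≤ E.A := fun x hx => hx.1
  have hk2 := E.two_le_k
  obtain ⟨j, hj⟩ := Subgroup.card_dvd_of_le hWA
  rw [E.card_W] at hj
  have hj1 : j = 1 := by
    rcases j with _ | _ | j
    · rw [mul_zero] at hj
      exact absurd hj Nat.card_pos.ne'
    · rfl
    · rw [hj] at hbound
      nlinarith [show E.k + 1 + (E.k + 1) ≤ (E.k + 1) * (j + 1 + 1) by nlinarith,
        show (E.k + 1) * (j + 1 + 1) ≤ 2 * E.k + 1 by omega]
  rw [hj1, mul_one] at hj
  have hW : E.W = E.A := Subgroup.eq_of_le_of_card_ge hWA (by rw [E.card_W, hj])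
  haveI : Fact (Nat.Prime 2) := ⟨Nat.prime_two⟩
  obtain ⟨f, hf⟩ := IsPGroup.iff_card.1 (show IsPGroup 2 E.A from fun x =>
    ⟨1, Subtype.ext (by rw [pow_one, Subgroup.coe_pow, pow_two]; exact (hW.ge x.2).2)⟩)
  have hf2 : 2 ≤ f := by
    rcases f with _ | _ | f
    · rw [pow_zero] at hf; omega
    · rw [zero_add, pow_one] at hf; omega
    · omega
  obtain ⟨h3, hsharp⟩ := Zassenhaus.sharply_three_of_card hZ hb.symm (by rw [hd, hn]; omega)
  let φ := MulAction.toPermHom G (G ⧸ E.N)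
  have h3' : IsMultiplyPretransitive φ.range (G ⧸ E.N) 3 := by
    refine ⟨fun x y => ?_⟩
    obtain ⟨g, hg⟩ := h3.exists_smul_eq x y
    refine ⟨⟨φ g, g, rfl⟩, ?_⟩
    rw [← hg]
    rfl
  have hsharp' : ∀ x : Fin 3 ↪ (G ⧸ E.N), MulAction.stabilizer φ.range x = ⊥ := by
    intro x
    rw [Subgroup.eq_bot_iff_forall]
    rintro ⟨_, g, rfl⟩ hg
    have h : g ∈ MulAction.stabilizer G x := hg
    rw [hsharp x, Subgroup.mem_bot] at h
    exact Subtype.ext (show φ g = 1 by rw [h, map_one])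
  obtain ⟨F, iF, iFt, hF, ⟨e⟩⟩ := S0727.result (f := f) (by omega)
    (by rw [← Nat.card_eq_fintype_card, hn, hf]) φ.range h3' hsharp'
  refine ⟨F, iF, iFt, f, hf2, hF, ⟨?_⟩⟩
  have hchar : ringChar F = 2 := FiniteField.even_card_iff_char_two.2 (by
    rw [hF, Nat.pow_mod, Nat.mod_self, zero_pow (by omega), Nat.zero_mod])
  have hsurj : Function.Surjective
      (ProjectiveSpecialLinearGroup.toPGL : ProjectiveSpecialLinearGroup (Fin 2) F →* _) := by
    intro x
    obtain ⟨u, rfl⟩ := ProjGenLinGroup.mk_surjective x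
    exact (PSL2.mk_mem_range_iff u).2 (FiniteField.isSquare_of_char_two hchar _)
  exact ((MonoidHom.ofInjective E.toPerm_injective).trans e).trans
    (MulEquiv.ofBijective _ ⟨ProjectiveSpecialLinearGroup.toPGL_injective, hsurj⟩).symm

end Setup

/-- A nonabelian simple group of even order in which commuting is transitive has a `Setup`. -/
theorem exists_setup [IsSimpleGroup G] (hne : ¬ ∀ a b : G, Commute a b)
    (hca : ∀ x y z : G, x ≠ 1 → Commute y x → Commute z x → Commute y z)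
    (heven : 2 ∣ Nat.card G) : Nonempty (Setup G) := by
  haveI : Fact (Nat.Prime 2) := ⟨Nat.prime_two⟩
  let S : Sylow 2 G := default
  have h2 : 2 ∣ Nat.card (S : Subgroup G) := S.dvd_card_of_dvd_card heven
  haveI : Nontrivial (S : Subgroup G) := Finite.one_lt_card_iff_nontrivial.1
    (lt_of_lt_of_le one_lt_two (Nat.le_of_dvd Nat.card_pos h2))
  haveI := S.2.center_nontrivial
  have h2c : 2 ∣ Nat.card (Subgroup.center (S : Subgroup G)) := by
    obtain ⟨n, hn⟩ := IsPGroup.iff_card.1 (S.2.to_subgroup (Subgroup.center (S : Subgroup G)))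
    have h1 := Finite.one_lt_card (α := Subgroup.center (S : Subgroup G))
    rw [hn] at h1 ⊢
    exact dvd_pow_self 2 (by rintro rfl; simp at h1)
  obtain ⟨z, hz⟩ := exists_prime_orderOf_dvd_card' 2 h2c
  have hz' : orderOf ((z : (S : Subgroup G)) : G) = 2 := by
    rw [Subgroup.orderOf_coe, Subgroup.orderOf_coe, hz]
  refine ⟨{ ca := hca, simple := inferInstance, S := S, z := ((z : (S : Subgroup G)) : G),
            z_inv := ⟨fun h => ?_, ?_⟩, z_comm := fun s hs => ?_, noncomm := hne }⟩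
  · rw [h, orderOf_one] at hz'
    omega
  · have h := pow_orderOf_eq_one ((z : (S : Subgroup G)) : G)
    rwa [hz', pow_two] at h
  · exact congrArg Subtype.val (Subgroup.mem_center_iff.1 z.2 ⟨s, hs⟩)

section Converse

variable {F : Type*} [Field F]

theorem sl_commute {x y z : SpecialLinearGroup (Fin 2) F}
    (hx : ¬ (x.1 0 1 = 0 ∧ x.1 1 0 = 0 ∧ x.1 0 0 = x.1 1 1)) (hy : y * x = x * y)
    (hz : z * x = x * z) : y * z = z * y := by
  have hM : ∀ w : Matrix.SpecialLinearGroup (Fin 2) F, w * x = x * w →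
      w.1 0 1 * x.1 1 0 = x.1 0 1 * w.1 1 0 ∧
      w.1 0 1 * (x.1 1 1 - x.1 0 0) = x.1 0 1 * (w.1 1 1 - w.1 0 0) ∧
      w.1 1 0 * (x.1 1 1 - x.1 0 0) = x.1 1 0 * (w.1 1 1 - w.1 0 0) := by
    intro w hw
    have h : w.1 * x.1 = x.1 * w.1 := congrArg Subtype.val hw
    have h00 := congrFun (congrFun h 0) 0
    have h01 := congrFun (congrFun h 0) 1
    have h10 := congrFun (congrFun h 1) 0
    simp [Matrix.mul_apply, Fin.sum_univ_two] at h00 h01 h10
    refine ⟨by linear_combination h00, by linear_combination h01, by linear_combination -h10⟩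
  obtain ⟨y1, y2, y3⟩ := hM y hy
  obtain ⟨z1, z2, z3⟩ := hM z hz
  have e : y.1 0 1 * z.1 1 0 = z.1 0 1 * y.1 1 0 ∧
      y.1 0 1 * (z.1 1 1 - z.1 0 0) = z.1 0 1 * (y.1 1 1 - y.1 0 0) ∧
      y.1 1 0 * (z.1 1 1 - z.1 0 0) = z.1 1 0 * (y.1 1 1 - y.1 0 0) := by
    by_cases hb : x.1 0 1 = 0
    · by_cases hc : x.1 1 0 = 0
      · have hd : x.1 1 1 - x.1 0 0 ≠ 0 := fun h => hx ⟨hb, hc, (sub_eq_zero.1 h).symm⟩
        rw [hb, zero_mul] at y2 z2
        rw [hc, zero_mul] at y3 z3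
        rw [(mul_eq_zero.1 y2).resolve_right hd, (mul_eq_zero.1 z2).resolve_right hd,
          (mul_eq_zero.1 y3).resolve_right hd, (mul_eq_zero.1 z3).resolve_right hd]
        simp
      · rw [hb, zero_mul] at y1 z1
        have y0 := (mul_eq_zero.1 y1).resolve_right hc
        have z0 := (mul_eq_zero.1 z1).resolve_right hc
        rw [y0, z0]
        refine ⟨by simp, by simp, mul_right_cancel₀ hc ?_⟩
        linear_combination y3 * z.1 1 0 - z3 * y.1 1 0
    · have e1 : y.1 0 1 * z.1 1 0 = z.1 0 1 * y.1 1 0 := by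
        refine mul_right_cancel₀ hb ?_
        linear_combination z.1 0 1 * y1 - y.1 0 1 * z1
      refine ⟨e1, mul_right_cancel₀ hb ?_, mul_right_cancel₀ hb ?_⟩
      · linear_combination z.1 0 1 * y2 - y.1 0 1 * z2
      · linear_combination z.1 1 0 * y2 - y.1 1 0 * z2 - (x.1 1 1 - x.1 0 0) * e1
  obtain ⟨e1, e2, e3⟩ := e
  ext i j
  fin_cases i <;> fin_cases j <;> simp [Matrix.mul_apply, Fin.sum_univ_two]
  · linear_combination e1
  · linear_combination e2
  · linear_combination -e3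
  · linear_combination -e1

theorem psl_commute [Fintype F] {f : ℕ} (hf : 1 ≤ f) (hF : Fintype.card F = 2 ^ f)
    {a b c : ProjectiveSpecialLinearGroup (Fin 2) F} (hb : b ≠ 1) (hab : Commute a b)
    (hbc : Commute b c) : Commute a c := by
  have hchar : ringChar F = 2 := FiniteField.even_card_iff_char_two.2 (by
    rw [hF, Nat.pow_mod, Nat.mod_self, zero_pow (by omega), Nat.zero_mod])
  haveI : CharP F 2 := hchar ▸ ringChar.charP F
  have hcen : Subgroup.center (SpecialLinearGroup (Fin 2) F) = ⊥ := by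
    rw [Subgroup.eq_bot_iff_forall]
    intro w hw
    obtain ⟨r, hr, he⟩ := Matrix.SpecialLinearGroup.mem_center_iff.1 hw
    have hr1 : r = 1 := by
      have h0 : (r - 1) * (r - 1) = 0 := by
        linear_combination (by simpa using hr : r ^ 2 = 1) + (1 - r) * CharTwo.two_eq_zero (R := F)
      exact sub_eq_zero.1 (mul_self_eq_zero.1 h0)
    exact Subtype.ext (by rw [← he, hr1]; simp)
  have hinj : Function.Injective
      (QuotientGroup.mk' (Subgroup.center (SpecialLinearGroup (Fin 2) F))) :=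
    (MonoidHom.ker_eq_bot_iff _).1 (by rw [QuotientGroup.ker_mk', hcen])
  obtain ⟨a, rfl⟩ := QuotientGroup.mk'_surjective _ a
  obtain ⟨b, rfl⟩ := QuotientGroup.mk'_surjective _ b
  obtain ⟨c, rfl⟩ := QuotientGroup.mk'_surjective _ c
  have hab' : a * b = b * a := hinj (by rw [map_mul, map_mul]; exact hab.eq)
  have hbc' : c * b = b * c := hinj (by rw [map_mul, map_mul]; exact hbc.eq.symm)
  refine (show Commute a c from sl_commute (x := b) ?_ hab' hbc').map _
  rintro ⟨h1, h2, h3⟩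
  refine hb ?_
  have hd := b.2
  rw [Matrix.det_fin_two, h1, h2, ← h3, mul_zero, sub_zero] at hd
  have h0 : (b.1 0 0 - 1) * (b.1 0 0 - 1) = 0 := by
    linear_combination hd + (1 - b.1 0 0) * CharTwo.two_eq_zero (R := F)
  have h00 := sub_eq_zero.1 (mul_self_eq_zero.1 h0)
  rw [show b = 1 from ?_, map_one]
  ext i j
  fin_cases i <;> fin_cases j <;> simp [h1, h2, ← h3, h00]

end Converse

end Cfsg.Agent.CAEven
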